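import Groth.Agent.CohDer42.AcClass

/-! Classes stable under binary sums whose acyclic bounded below complexes stay acyclic consist of acyclic objects. -/

universe w w' v v' u u'

open CategoryTheory Category Limits HomologicalComplex
open scoped ZeroObject

set_option autoImplicit false
set_option linter.unusedSectionVars false
set_option backward.isDefEq.respectTransparency false

namespace Groth.Agent.Adapted38

open Groth.Agent.CohDer42

variable {C : Type u} [Category.{v} C] [Abelian C] {D : Type u'} [Category.{v'} D] [Abelian D]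
  (G : C ⥤ D) [G.Additive]

/-- the objects of a sum of disks -/
noncomputable def diskX (Y : C) : ℕ → C
  | 0 => Y
  | _ + 1 => Y ⊞ Y

/-- the differentials of a sum of disks -/
noncomputable def diskD (Y : C) : ∀ n, diskX Y n ⟶ diskX Y (n + 1)
  | 0 => (biprod.inl : Y ⟶ Y ⊞ Y)
  | _ + 1 => (biprod.snd : Y ⊞ Y ⟶ Y) ≫ biprod.inl

/-- a contractible complex with all terms built from `Y` -/
noncomputable def disk (Y : C) : CochainComplex C ℕ :=
  CochainComplex.of (diskX Y) (diskD Y) (fun n => by cases n <;> simp [diskD])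

lemma disk_d (Y : C) (n : ℕ) : (disk Y).d n (n + 1) = diskD Y n := CochainComplex.of_d _ _ _

lemma disk_acyclic (Y : C) : (disk Y).Acyclic := by
  intro n
  have hs : (ShortComplex.mk (biprod.inl : Y ⟶ Y ⊞ Y) (biprod.snd : Y ⊞ Y ⟶ Y) biprod.inl_snd).Exact :=
    (ShortComplex.Splitting.ofHasBinaryBiproduct Y Y).exact
  rcases n with _ | _ | n
  · rw [exactAt_iff' _ 0 0 1 (by simp) (by simp)]
    refine (ShortComplex.exact_iff_mono _ (by simp)).2 ?_
    show Mono ((disk Y).d 0 1)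
    rw [disk_d]
    exact inferInstanceAs (Mono (biprod.inl : Y ⟶ Y ⊞ Y))
  · rw [exactAt_iff' _ 0 1 2 (by simp) (by simp)]
    let φ : ShortComplex.mk (biprod.inl : Y ⟶ Y ⊞ Y) (biprod.snd : Y ⊞ Y ⟶ Y) biprod.inl_snd ⟶ (disk Y).sc' 0 1 2 :=
      { τ₁ := 𝟙 Y, τ₂ := 𝟙 (Y ⊞ Y), τ₃ := (biprod.inl : Y ⟶ Y ⊞ Y)
        comm₁₂ := (Category.id_comp _).trans ((disk_d Y 0).trans (Category.comp_id _).symm)
        comm₂₃ := (Category.id_comp _).trans (disk_d Y 1) }
    have : Epi φ.τ₁ := inferInstanceAs (Epi (𝟙 Y))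
    have : IsIso φ.τ₂ := inferInstanceAs (IsIso (𝟙 (Y ⊞ Y)))
    have : Mono φ.τ₃ := inferInstanceAs (Mono (biprod.inl : Y ⟶ Y ⊞ Y))
    exact (ShortComplex.exact_iff_of_epi_of_isIso_of_mono φ).1 hs
  · rw [exactAt_iff' _ (n + 1) (n + 2) (n + 3) (by simp) (by simp)]
    let T := ShortComplex.mk ((biprod.snd : Y ⊞ Y ⟶ Y) ≫ biprod.inl) (biprod.snd : Y ⊞ Y ⟶ Y) (by simp)
    let ψ : T ⟶ ShortComplex.mk (biprod.inl : Y ⟶ Y ⊞ Y) (biprod.snd : Y ⊞ Y ⟶ Y) biprod.inl_snd :=
      { τ₁ := biprod.snd, τ₂ := 𝟙 _, τ₃ := 𝟙 _ }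
    have : Epi ψ.τ₁ := inferInstanceAs (Epi (biprod.snd : Y ⊞ Y ⟶ Y))
    have : IsIso ψ.τ₂ := inferInstanceAs (IsIso (𝟙 (Y ⊞ Y)))
    have : Mono ψ.τ₃ := inferInstanceAs (Mono (𝟙 Y))
    have hT : T.Exact := (ShortComplex.exact_iff_of_epi_of_isIso_of_mono ψ).2 hs
    let φ : T ⟶ (disk Y).sc' (n + 1) (n + 2) (n + 3) :=
      { τ₁ := 𝟙 (Y ⊞ Y), τ₂ := 𝟙 (Y ⊞ Y), τ₃ := (biprod.inl : Y ⟶ Y ⊞ Y)
        comm₁₂ := (Category.id_comp _).trans ((disk_d Y (n + 1)).trans (Category.comp_id _).symm)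
        comm₂₃ := (Category.id_comp _).trans (disk_d Y (n + 2)) }
    have : Epi φ.τ₁ := inferInstanceAs (Epi (𝟙 (Y ⊞ Y)))
    have : IsIso φ.τ₂ := inferInstanceAs (IsIso (𝟙 (Y ⊞ Y)))
    have : Mono φ.τ₃ := inferInstanceAs (Mono (biprod.inl : Y ⟶ Y ⊞ Y))
    exact (ShortComplex.exact_iff_of_epi_of_isIso_of_mono φ).1 hT

lemma acyclic_map_nat (I : ObjectProperty C) (h0 : ∀ X Y : C, I X → I Y → I (X ⊞ Y))
    (h2 : ∀ K : CochainComplex C ℕ, (∀ i, I (K.X i)) → K.Acyclic →
      ((G.mapHomologicalComplex (ComplexShape.up ℕ)).obj K).Acyclic)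
    {X : C} (hX : I X) (K : CochainComplex C ℕ) (hK : K.Acyclic) (hKI : ∀ i, sat I (K.X i)) :
    ((G.mapHomologicalComplex (ComplexShape.up ℕ)).obj K).Acyclic := by
  have hDI : ∀ i, I ((disk X).X i) := fun i => by cases i; exacts [hX, h0 _ _ hX hX]
  let T := K ⊞ disk X
  have hTac : T.Acyclic := fun n => by
    rw [exactAt_iff_isZero_homology]
    let F := homologyFunctor C (ComplexShape.up ℕ) n
    have h : F.map (biprod.fst ≫ biprod.inl + biprod.snd ≫ biprod.inr : T ⟶ T) = 0 := by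
      rw [F.map_add, F.map_comp, F.map_comp,
        ((exactAt_iff_isZero_homology K n).1 (hK n)).eq_of_tgt (F.map biprod.fst) 0,
        ((exactAt_iff_isZero_homology _ n).1 (disk_acyclic X n)).eq_of_tgt (F.map biprod.snd) 0]
      simp
    rw [biprod.total, F.map_id] at h
    exact (IsZero.iff_id_eq_zero _).2 h
  have hT : ∀ i, ∃ Y, I Y ∧ Nonempty (Y ≅ T.X i) := fun i => by
    rcases hKI i with h | ⟨Y, hY, ⟨e⟩⟩
    · exact ⟨_, hDI i, ⟨isoZeroBiprod h ≪≫ (biprodXIso K (disk X) i).symm⟩⟩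
    · exact ⟨_, h0 _ _ hY (hDI i), ⟨biprod.mapIso e (Iso.refl _) ≪≫ (biprodXIso K (disk X) i).symm⟩⟩
  choose Y hY e using hT
  let T' : CochainComplex C ℕ :=
    { X := Y
      d := fun i j => (e i).some.hom ≫ T.d i j ≫ (e j).some.inv
      shape := fun i j h => by simp [T.shape i j h]
      d_comp_d' := fun i j k _ _ => by simp }
  let eT : T' ≅ T := HomologicalComplex.Hom.isoOfComponents (fun i => (e i).some) (fun i j _ => by simp [T'])
  have h' := h2 T' hY fun n => (exactAt_iff_isZero_homology _ n).2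
    (((exactAt_iff_isZero_homology T n).1 (hTac n)).of_iso ((homologyFunctor C (ComplexShape.up ℕ) n).mapIso eT))
  have hGT : ((G.mapHomologicalComplex (ComplexShape.up ℕ)).obj T).Acyclic := fun n =>
    (exactAt_iff_isZero_homology _ n).2 (((exactAt_iff_isZero_homology _ n).1 (h' n)).of_iso
      ((G.mapHomologicalComplex (ComplexShape.up ℕ) ⋙ homologyFunctor D (ComplexShape.up ℕ) n).mapIso eT.symm))
  intro n
  rw [exactAt_iff_isZero_homology]
  let F := G.mapHomologicalComplex (ComplexShape.up ℕ) ⋙ homologyFunctor D (ComplexShape.up ℕ) n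
  exact IsZero.of_mono (F.map (biprod.inl : K ⟶ T)) ((exactAt_iff_isZero_homology _ n).1 (hGT n))

lemma exactAt_restriction_iff {E : Type*} [Category E] [Abelian E] (M : CochainComplex E ℤ) [M.IsStrictlyGE (-1)]
    (k : ℕ) : (M.restriction (ComplexShape.embeddingUpIntGE (-1))).ExactAt k ↔ M.ExactAt (-1 + k) := by
  rcases k with _ | k
  · rw [exactAt_iff' _ 0 0 1 (by simp) (by simp), exactAt_iff' _ (-2) (-1 + ((0 : ℕ) : ℤ)) 0 (by simp) (by simp),
      ShortComplex.exact_iff_mono _ (by exact HomologicalComplex.shape _ _ _ (by simp)),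
      ShortComplex.exact_iff_mono _ ((M.isZero_of_isStrictlyGE (-1) (-2) (by simp)).eq_of_src _ _)]
    exact Iff.rfl
  · rw [exactAt_iff' _ k (k + 1) (k + 2) (by simp) (by simp),
      exactAt_iff' _ (-1 + (k : ℤ)) (-1 + ((k + 1 : ℕ) : ℤ)) (-1 + ((k + 2 : ℕ) : ℤ)) (by simp; lia) (by simp; lia)]
    exact Iff.rfl

lemma acyclic_map_int (I : ObjectProperty C) (h0 : ∀ X Y : C, I X → I Y → I (X ⊞ Y))
    (h2 : ∀ K : CochainComplex C ℕ, (∀ i, I (K.X i)) → K.Acyclic →
      ((G.mapHomologicalComplex (ComplexShape.up ℕ)).obj K).Acyclic)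
    {X : C} (hX : I X) (M : CochainComplex C ℤ) [M.IsStrictlyGE (-1)] (hM : M.Acyclic)
    (hMI : ∀ n, sat I (M.X n)) :
    ((G.mapHomologicalComplex (ComplexShape.up ℤ)).obj M).Acyclic := by
  have h := acyclic_map_nat G I h0 h2 hX (M.restriction (ComplexShape.embeddingUpIntGE (-1)))
    (fun k => (exactAt_restriction_iff M k).2 (hM _)) (fun k => hMI _)
  let N : CochainComplex D ℤ := (G.mapHomologicalComplex (ComplexShape.up ℤ)).obj M
  have : N.IsStrictlyGE (-1) := (CochainComplex.isStrictlyGE_iff N (-1)).2 fun i hi =>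
    G.map_isZero (M.isZero_of_isStrictlyGE (-1) i hi)
  intro n
  by_cases hn : -1 ≤ n
  · obtain ⟨k, rfl⟩ := Int.le.dest hn
    exact (exactAt_restriction_iff N k).1 (h k)
  · exact ShortComplex.exact_of_isZero_X₂ _
      (N.isZero_of_isStrictlyGE (-1) n (by lia))

theorem quasiIso_map_ι'_of_acyclic_class (I : ObjectProperty C)
    (h1 : ∀ X : C, ∃ (Y : C) (ι : X ⟶ Y), I Y ∧ Mono ι)
    (h0 : ∀ X Y : C, I X → I Y → I (X ⊞ Y))
    (h2 : ∀ K : CochainComplex C ℕ, (∀ i, I (K.X i)) → K.Acyclic →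
      ((G.mapHomologicalComplex (ComplexShape.up ℕ)).obj K).Acyclic)
    {X : C} (hX : I X) (R : InjectiveResolution X) :
    QuasiIso ((G.mapHomologicalComplex (ComplexShape.up ℤ)).map R.ι') := by
  let := HasDerivedCategory.standard C
  let := HasDerivedCategory.standard D
  obtain ⟨L, u, hL, hLI, -, hu⟩ := exists_resolution (sat I)
    (fun Y => ⟨_, (h1 Y).choose_spec.choose, Or.inr ⟨_, (h1 Y).choose_spec.choose_spec.1, ⟨Iso.refl _⟩⟩,
      (h1 Y).choose_spec.choose_spec.2⟩)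
    R.cochainComplex ⟨0, isZero_zero C, Or.inl (isZero_zero C)⟩ 0
  have : R.cochainComplex.IsKInjective := CochainComplex.isKInjective_of_injective _ 0
  obtain ⟨v, hv⟩ := Q_map_surjective_of_isKInjective (inv (DerivedCategory.Q.map u))
  obtain ⟨h⟩ := homotopy_of_Q_map_eq (f := u ≫ v) (g := 𝟙 _)
    (by rw [Functor.map_comp, hv, IsIso.hom_inv_id, CategoryTheory.Functor.map_id])
  let X₀ := (CochainComplex.singleFunctor C 0).obj X
  have : CochainComplex.IsStrictlyGE X₀ 0 := inferInstance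
  let M := CochainComplex.mappingCone (R.ι' ≫ u)
  have : M.IsStrictlyGE (-1) := CochainComplex.isStrictlyGE_mappingCone (R.ι' ≫ u) 0 0 (-1)
  have hMX : ∀ n, sat I (M.X n) := fun n => by
    by_cases hn : n = -1
    · subst hn
      refine Or.inr ⟨X, hX, ⟨?_⟩⟩
      have hz : IsZero (L.X (-1)) := L.isZero_of_isStrictlyGE 0 _ (by lia)
      exact (HomologicalComplex.singleObjXSelf (ComplexShape.up ℤ) 0 X).symm ≪≫
        (isoBiprodZero hz) ≪≫
        (HomologicalComplex.homotopyCofiber.XIsoBiprod (R.ι' ≫ u) (-1) 0 (by simp)).symm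
    · have hz : IsZero (X₀.X (n + 1)) := HomologicalComplex.isZero_single_obj_X _ _ _ _ (by lia)
      let e : L.X n ≅ M.X n := isoZeroBiprod hz ≪≫
        (HomologicalComplex.homotopyCofiber.XIsoBiprod (R.ι' ≫ u) n (n + 1) rfl).symm
      rcases hLI n with h | ⟨Y, hY, ⟨e'⟩⟩
      · exact Or.inl (h.of_iso e.symm)
      · exact Or.inr ⟨Y, hY, ⟨e' ≪≫ e⟩⟩
  have hT := HomotopyCategory.mappingCone_triangleh_distinguished (R.ι' ≫ u)
  have hMac : M.Acyclic := by
    refine (HomotopyCategory.quotient_obj_mem_subcategoryAcyclic_iff_acyclic _).1 ?_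
    refine ((HomotopyCategory.subcategoryAcyclic C).trW_iff_of_distinguished _ hT).1 ?_
    rw [← HomotopyCategory.quasiIso_eq_trW_subcategoryAcyclic]
    exact (HomotopyCategory.quotient_map_mem_quasiIso_iff _).2
      ((HomologicalComplex.mem_quasiIso_iff _).2 (inferInstance : QuasiIso (R.ι' ≫ u)))
  have hq : QuasiIso ((G.mapHomologicalComplex (ComplexShape.up ℤ)).map (R.ι' ≫ u)) := by
    rw [← HomologicalComplex.mem_quasiIso_iff, ← HomotopyCategory.quotient_map_mem_quasiIso_iff,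
      HomotopyCategory.quasiIso_eq_trW_subcategoryAcyclic]
    refine ((HomotopyCategory.subcategoryAcyclic D).trW_iff_of_distinguished _
      ((G.mapHomotopyCategory (ComplexShape.up ℤ)).map_distinguished _ hT)).2 ?_
    exact (HomotopyCategory.quotient_obj_mem_subcategoryAcyclic_iff_acyclic _).2
      (acyclic_map_int G I h0 h2 hX M hMac hMX)
  let GQ := G.mapHomologicalComplex (ComplexShape.up ℤ) ⋙ DerivedCategory.Q
  have huv : GQ.map u ≫ GQ.map v = 𝟙 _ := by
    rw [← Functor.map_comp]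
    exact (DerivedCategory.Q_map_eq_of_homotopy _ (G.mapHomotopy h)).trans (GQ.map_id _)
  have i1 : IsIso (GQ.map (R.ι' ≫ u)) := by
    change IsIso (DerivedCategory.Q.map ((G.mapHomologicalComplex (ComplexShape.up ℤ)).map (R.ι' ≫ u)))
    rwa [DerivedCategory.isIso_Q_map_iff_quasiIso]
  rw [← DerivedCategory.isIso_Q_map_iff_quasiIso D]
  change IsIso (GQ.map R.ι')
  have hp : Epi (GQ.map u) :=
    epi_of_epi_fac (show GQ.map R.ι' ≫ GQ.map u = GQ.map (R.ι' ≫ u) from (GQ.map_comp _ _).symm)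
  have hm : IsSplitMono (GQ.map u) := IsSplitMono.mk' ⟨GQ.map v, huv⟩
  have : IsIso (GQ.map u) := isIso_of_epi_of_isSplitMono _
  have : IsIso (GQ.map R.ι' ≫ GQ.map u) := by rw [← GQ.map_comp]; exact i1
  exact IsIso.of_isIso_comp_right _ (GQ.map u)

end Groth.Agent.Adapted38
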